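import Cfsg.Agent.Cam.Main
import Cfsg.Agent.Cam.Ex.PBox
import Cfsg.Agent.Cam.Ex.U4
import Cfsg.Agent.Cam.Odd.NT
import Cfsg.Agent.Cam.Spor.RowBM
import Cfsg.Agent.Cam.Spor.RowM

/-!
# S3689, S3690: all rows but `E₈` from the classification (helper53)
-/

set_option autoImplicit false

namespace Cfsg.Agent.Cam.All

open Cfsg

/-- all rows but `E₈` -/
theorem rows (big : Big) : Rows :=
  Mn.rows big (Ex.P.boxP big) (Ex.Ub.boxU (Ex.P.boxP big)) Odd.NT.boxNT (fun _ _ _ b h => Spor.noCore_b b h)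
    fun _ _ _ b h => Spor.noCore_m b h

end Cfsg.Agent.Cam.All
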