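import Cfsg.Agent.Cam.Red.Count
import Cfsg.Agent.Lib.GenFitting

/-!
# S3689, S3690: from the permutation group to the configuration (helper53)

`s3689_of big rows` and `s3690_of big rows e8` are the two statements (any universes).  The final files are
`Cfsg.Agent.Cam.Fin.s3689_of ⟨fun _ _ _ _ => S0000.result, fun _ _ _ _ => S5758.result⟩ rows N hNn ...`.
-/

set_option autoImplicit false

namespace Cfsg.Agent.Cam.Fin

open Subgroup Cfsg.Agent.Cam Cfsg.Agent.Cam.Rd MulAction

/-- the configuration in a copy of `G` in `Type` -/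
theorem exists_conf {G Ω : Type*} [Group G] [Finite G] [MulAction G Ω] [FaithfulSMul G Ω]
    (N : Subgroup G) (hNn : N.Normal) (hNs : IsSimpleGroup N) (hNa : ¬ IsMulCommutative N)
    (hNc : centralizer (N : Set G) = ⊥) (hprim : IsPreprimitive G Ω) (x y : Ω) (hxy : x ≠ y)
    (hnorm : ((stabilizer G x ⊓ stabilizer G y).subgroupOf (stabilizer G x)).Normal)
    (hne : stabilizer G x ⊓ stabilizer G y ≠ ⊥) :
    ∃ (G' : Type) (_ : Group G') (_ : Finite G') (S H : Subgroup G') (g : G'),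
      Conf S H g ∧ Nonempty (S ≃* N) ∧ Nonempty (H ≃* stabilizer G x) := by
  have : Nontrivial Ω := ⟨x, y, hxy⟩
  have htr : IsPretransitive G Ω := hprim.toIsPretransitive
  obtain ⟨g, hg⟩ := exists_smul_eq G x y
  let e : G ≃* Shrink.{0} G := (Shrink.mulEquiv).symm
  have hfin : Finite (Shrink.{0} G) := Finite.of_equiv G e.toEquiv
  have hmem : ∀ (Y : Subgroup G) (a : G), e a ∈ Y.map e.toMonoidHom ↔ a ∈ Y := fun Y a => by
    rw [mem_map_equiv]
    simp
  have hN0 : ∀ a : G, e a ∈ N0 ((stabilizer G x).map e.toMonoidHom) (e g) ↔ a ∈ stabilizer G x ⊓ stabilizer G y := by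
    intro a
    rw [mem_N0, ← map_inv, ← map_mul, ← map_mul, hmem, hmem, mem_inf]
    refine and_congr_right fun _ => ?_
    rw [mem_stabilizer_iff, mem_stabilizer_iff, mul_smul, mul_smul, hg, inv_smul_eq_iff, hg]
  refine ⟨Shrink.{0} G, inferInstance, hfin, N.map e.toMonoidHom, (stabilizer G x).map e.toMonoidHom, e g,
    { normal := hNn.map _ e.surjective
      simple := (MulEquiv.isSimpleGroup_congr (e.subgroupMap N)).1 hNs
      noncomm := noncomm_of_equiv (e.subgroupMap N) hNa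
      cent := ?_
      coatom := (OrderIso.isCoatom_iff e.mapSubgroup _).2 (hprim.isCoatom_stabilizer_of_isPreprimitive G x)
      not_le := fun h => ?_
      not_mem := fun h => hxy (((hmem _ _).1 h).symm.trans hg)
      nrm := fun h hh n hn => ?_
      ne_bot := fun h => hne ?_ }, ⟨(e.subgroupMap N).symm⟩, ⟨(e.subgroupMap _).symm⟩⟩
  · rw [eq_bot_iff]
    intro c hc
    obtain ⟨c, rfl⟩ := e.surjective c
    have : c ∈ centralizer (N : Set G) := mem_centralizer_iff.2 fun n hn => e.injective (by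
      rw [map_mul, map_mul]
      exact mem_centralizer_iff.1 hc _ ((hmem _ _).2 hn))
    rw [hNc, mem_bot] at this
    rw [this, map_one]
    exact one_mem _
  · have h1 : N = ⊥ := by
      rw [eq_bot_iff]
      intro n hn
      rw [mem_bot]
      refine eq_of_smul_eq_smul fun z : Ω => ?_
      obtain ⟨a, rfl⟩ := exists_smul_eq G x z
      have h2 : a⁻¹ * n * a ∈ stabilizer G x := (hmem _ _).1 (h ((hmem _ _).2 (hNn.conj_mem' n hn a)))
      rw [mem_stabilizer_iff, mul_smul, mul_smul, inv_smul_eq_iff] at h2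
      rw [h2, one_smul]
    exact (nontrivial_iff_ne_bot N).1 inferInstance h1
  · obtain ⟨h, rfl⟩ := e.surjective h
    obtain ⟨n, rfl⟩ := e.surjective n
    rw [← map_inv, ← map_mul, ← map_mul, hN0]
    rw [hN0] at hn
    rw [hmem] at hh
    exact mem_subgroupOf.1 (hnorm.conj_mem ⟨n, hn.1⟩ (mem_subgroupOf.2 hn) ⟨h, hh⟩)
  · rw [eq_bot_iff]
    intro a ha
    rw [← hN0, h, mem_bot] at ha
    exact e.injective (ha.trans (map_one e).symm)

theorem isoE8_congr {A B : Type*} [Group A] [Group B] (e : A ≃* B) (h : Lie.IsoE8 A) : Lie.IsoE8 B := by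
  obtain ⟨F, i1, i2, ⟨f⟩⟩ := h
  exact ⟨F, i1, i2, ⟨e.symm.trans f⟩⟩

/-- S3689 from the rows -/
theorem s3689_of (big : Big) (rows : Rows) {G Ω : Type*} [Group G] [Finite G] [MulAction G Ω] [FaithfulSMul G Ω]
    (N : Subgroup G) (hNn : N.Normal) (hNs : IsSimpleGroup N) (hNa : ¬ IsMulCommutative N)
    (hNc : centralizer (N : Set G) = ⊥) (hE : ¬ Lie.IsoE8 N) (hprim : IsPreprimitive G Ω) (x y : Ω) (hxy : x ≠ y)
    (hnorm : ((stabilizer G x ⊓ stabilizer G y).subgroupOf (stabilizer G x)).Normal) :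
    stabilizer G x ⊓ stabilizer G y = ⊥ := by
  by_contra hne
  obtain ⟨G', _, _, S, H, g, c, ⟨e⟩, -⟩ := exists_conf N hNn hNs hNa hNc hprim x y hxy hnorm hne
  exact hE (isoE8_congr e (isoE8_of_conf big red rows c))

/-- S3690 from the rows -/
theorem s3690_of (big : Big) (rows : Rows) (e8 : BoxE8) {G Ω : Type*} [Group G] [Finite G] [MulAction G Ω]
    [FaithfulSMul G Ω] (N : Subgroup G) (hNn : N.Normal) (hNs : IsSimpleGroup N) (hNa : ¬ IsMulCommutative N)
    (hNc : centralizer (N : Set G) = ⊥) (hprim : IsPreprimitive G Ω) (x y : Ω) (hxy : x ≠ y)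
    (hB : Lie.IsoE8 N → ¬ Nonempty (generalizedFittingSubgroup (stabilizer G x) ≃*
      alternatingGroup (Fin 5) × alternatingGroup (Fin 6)))
    (hnorm : ((stabilizer G x ⊓ stabilizer G y).subgroupOf (stabilizer G x)).Normal) :
    stabilizer G x ⊓ stabilizer G y = ⊥ := by
  by_contra hne
  obtain ⟨G', _, _, S, H, g, c, ⟨e⟩, ⟨e'⟩⟩ := exists_conf N hNn hNs hNa hNc hprim x y hxy hnorm hne
  have h8 := isoE8_of_conf big red rows c
  obtain ⟨f⟩ := e8 big red G' S H g c h8
  refine hB (isoE8_congr e h8) ⟨MulEquiv.trans ?_ f⟩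
  exact ((e'.subgroupMap _).trans (MulEquiv.subgroupCongr (Lib.GenFitting.map_genFitting e'))).symm

end Cfsg.Agent.Cam.Fin
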