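import Cfsg.Agent.Cam.Final
import Cfsg.Agent.Cam.Alt.Box
import Cfsg.Agent.Cam.Cl.Rows
import Cfsg.Agent.Cam.F42.Main
import Cfsg.Agent.Cam.Spor.SzRee
import Cfsg.Agent.Cam.Spor.RowC
import Cfsg.Agent.Cam.Spor.RowCo1
import Cfsg.Agent.Cam.Spor.RowFi
import Cfsg.Agent.Cam.Spor.RowHN
import Cfsg.Agent.Cam.Spor.RowLy
import Cfsg.Agent.Cam.Spor.RowSuz
import Cfsg.Agent.Cam.Spor.MBig
import Cfsg.Agent.Cam.Ex.Frame
import Cfsg.Agent.Cam.Ex.K
import Cfsg.Agent.Cam.Ex.Fin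
import Cfsg.Agent.Cam.Ex.Fin5
import Cfsg.Agent.Cam.Ex.E2D
import Cfsg.Agent.Cam.Ex.Out3
import Cfsg.Agent.Cam.Ex.SL3
import Cfsg.Agent.Cam.Odd.Small
import Cfsg.Agent.Cam.Odd.One
import Cfsg.Agent.Cam.Odd.St
import Cfsg.Agent.Cam.Odd.Grp
import Cfsg.Agent.Cam.Odd.Lin
import Cfsg.Agent.Cam.Odd.Ext

/-!
# S3689: the rows from the last five boxes (helper81)
-/

set_option autoImplicit false

namespace Cfsg.Agent.Cam.Mn

open Cfsg Cfsg.Agent.Cam.Spor Cfsg.Agent.Cam.Ex Cfsg.Agent.Cam.Odd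

/-- the sporadic row -/
theorem boxSpor (hb : ∀ (L : Type) [Group L] [Finite L], Big → Spor.IsoB L → NoCore L)
    (hm : ∀ (L : Type) [Group L] [Finite L], Big → Spor.IsoM L → NoCore L) : BoxSpor :=
  fun big red => row_of big red fun L _ _ _ h => by
    rcases h with h | h | h | h | h | h | h | h | h | h | h | h | h | h | h | h | h | h | h | h | h | h | h | h | h | h
    exacts [⟨rank7_m11 big h, noCore_m11 big h⟩, ⟨rank7_m12 big h, noCore_m12 big h⟩,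
      ⟨rank7_m22 big h, noCore_m22 big h⟩, ⟨rank7_m23 big h, noCore_m23 big h⟩, ⟨rank7_m24 big h, noCore_m24 big h⟩,
      ⟨rank7_j1 big h, noCore_j1 big h⟩, ⟨rank7_j2 big h, noCore_j2 big h⟩, ⟨rank7_j3 big h, noCore_j3 big h⟩,
      ⟨rank7_j4 big h, noCore_j4 big h⟩, ⟨rank7_co1 big h, noCore_co1 big h⟩, ⟨rank7_co2 big h, noCore_co2 big h⟩,
      ⟨rank7_co3 big h, noCore_co3 big h⟩, ⟨rank7_mcl big h, noCore_mcl big h⟩, ⟨rank7_hs big h, noCore_hs big h⟩,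
      ⟨rank7_suz big h, noCore_suz big h⟩, ⟨rank7_he big h, noCore_he big h⟩, ⟨rank7_ru big h, noCore_ru big h⟩,
      ⟨rank7_on big h, noCore_on big h⟩, ⟨rank7_ly big h, noCore_ly big h⟩, ⟨rank7_fi22 big h, noCore_fi22 big h⟩,
      ⟨rank7_fi23 big h, noCore_fi23 big h⟩, ⟨rank7_fi24 big h, noCore_fi24 big h⟩,
      ⟨rank7_hn big h, noCore_hn big h⟩, ⟨rank7_th big h, noCore_th big h⟩, ⟨rank7_b big h, hb L big h⟩,
      ⟨rank7_m big h, hm L big h⟩]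

/-- the boxes of the exceptional rows -/
theorem boxes (big : Big) (bp : BoxP) (bu : BoxU) (nt : BoxNT) : Boxes where
  frame := Frm.boxFrame
  chi := boxChi
  tor := boxTor
  bp := bp
  bk := boxK bp
  fin := Cb.boxFin boxConn
  ends := E2.boxEnd' big
  bu := bu
  small := boxSmall big bp (E2.boxEnd' big) (Cb.boxFin5 boxConn) (Grp5.boxGrp5 big) Out3.boxOut3 SL3.boxSL3
    (One.boxLowB big) (One.boxOne big) L7.boxL7 Grp.boxGrp Lin.boxLin nt Ext.boxExt (St.boxSt big)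

/-- all rows but `E₈` -/
theorem rows (big : Big) (bp : BoxP) (bu : BoxU) (nt : BoxNT)
    (hb : ∀ (L : Type) [Group L] [Finite L], Big → Spor.IsoB L → NoCore L)
    (hm : ∀ (L : Type) [Group L] [Finite L], Big → Spor.IsoM L → NoCore L) : Rows where
  alt := Alt.boxAlt
  psl := Cl.Rw.rows.1
  psp := Cl.Rw.rows.2.1
  psu := Cl.Rw.rows.2.2.1
  oodd := Cl.Rw.rows.2.2.2.1
  oplus := Cl.Rw.rows.2.2.2.2.1
  ominus := Cl.Rw.rows.2.2.2.2.2
  g2 := (boxes big bp bu nt).g2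
  f4 := (boxes big bp bu nt).f4
  e6 := (boxes big bp bu nt).e6
  e7 := (boxes big bp bu nt).e7
  te6 := (boxes big bp bu nt).te6
  td4 := (boxes big bp bu nt).td4
  sz := boxSz
  ree := boxRee
  tf4 := F42.box2F4
  tits := boxTits
  spor := boxSpor hb hm

end Cfsg.Agent.Cam.Mn
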